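import Cfsg.Agent.Lib.Helper12.TCG.Fi22Pe28160.Perm
import Cfsg.Agent.Lib.Helper12.TCG.RhoOnly

/-! the permutation representation for Fi22Pe28160 (generated, helper12) -/

set_option autoImplicit false
set_option maxRecDepth 100000

namespace Cfsg.Agent.Lib.Helper12.TCG.Fi22Pe28160

open Cfsg.Agent.Lib.Helper12.TC Cfsg.Agent.Lib.Helper12.TCG Cfsg.Agent.Lib.Helper12.Fi22M Cfsg.Agent.Lib.Helper12.Fi22M.PresP9

theorem hN0 : 0 < cN := by decide

/-- the permutation representation given by the table -/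
theorem mainRho : ∃ ρ : PresP9.Grp →* Equiv.Perm (Fin cN),
    ∀ x < 9, ∀ i : Fin cN, ((ρ (PresP9.v x) i : Fin cN) : ℕ) = TT x i :=
  rho_only PresP9.v 9 PresP9.cIV (by decide) PresP9.hiv PresP9.baseL PresP9.hlet TT cN hperm
    (fun f => PresP9.hlift f) hrels

/-- the permutation representation -/
noncomputable def rho : PresP9.Grp →* Equiv.Perm (Fin cN) := mainRho.choose

theorem rho_gen : ∀ x < 9, ∀ i : Fin cN, ((rho (PresP9.v x) i : Fin cN) : ℕ) = TT x i :=
  mainRho.choose_spec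

end Cfsg.Agent.Lib.Helper12.TCG.Fi22Pe28160
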